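/-
Centralizers of self-centralizing normal subgroups of Fitting subgroups in solvable groups.

* `pStable_solvable` : quadratic elements on normal `p`-subgroups, `p ≥ 5`
* `le_of_commute` : the key step
-/
import Cfsg.Agent.EqLemmas
import Cfsg.Agent.Lib.Quadratic.Stable
import Cfsg.Agent.Lib.PSL2.Soluble
import Cfsg.Agent.Lib.Cores.Fitting
import Cfsg.Agent.Lib.Solvable.Fitting
import Cfsg.Agent.Lib.Transfer.Residual

set_option autoImplicit false

namespace Cfsg.Agent.SelfCentFitting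

variable {X : Type*} [Group X] [Finite X] [Group.IsSolvable X]

/-- Solvable groups are `p`-stable for `p ≥ 5`. -/
theorem pStable_solvable {p : ℕ} [hp : Fact p.Prime] (hp5 : 5 ≤ p) {P : Subgroup X} [P.Normal]
    (hP : IsPGroup p P) {a : X} (ha : ∀ v ∈ P, Commute a (a * v * a⁻¹ * v⁻¹)) :
    (QuotientGroup.mk a : X ⧸ Subgroup.centralizer (P : Set X)) ∈
      Cfsg.pCore p (X ⧸ Subgroup.centralizer (P : Set X)) := by
  by_contra hna
  obtain ⟨K, L, hL, -, ⟨e⟩⟩ :=
    Quadratic.section_sl2_of_not_stable (by omega) hP ha hna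
  haveI : Group.IsSolvable (PSL2.SL2 (ZMod p)) :=
    Group.isSolvable_of_surjective (f := e.toMonoidHom.comp (QuotientGroup.mk' (L.subgroupOf K)))
      (e.surjective.comp (QuotientGroup.mk'_surjective _))
  refine PSL2.not_isSolvable_psl (L := ZMod p) (by rw [Nat.card_zmod]; omega) ?_
  exact Group.isSolvable_of_surjective
    (f := QuotientGroup.mk' (Subgroup.center (Matrix.SpecialLinearGroup (Fin 2) (ZMod p))))
    (QuotientGroup.mk'_surjective _)

/-- An element of `p`-power order quadratic on a `q`-group, `q ≠ p`, centralizes it. -/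
theorem commute_of_quadratic {p q : ℕ} [hp : Fact p.Prime] [hq : Fact q.Prime] (hne : p ≠ q)
    {F : Subgroup X} [F.Normal] (hF : IsPGroup q F) {x : X} {k : ℕ} (hx : x ^ p ^ k = 1) {v : X}
    (hv : v ∈ F) (hq' : Commute x (x * v * x⁻¹ * v⁻¹)) : Commute x v := by
  set d := x * v * x⁻¹ * v⁻¹ with hd
  have hdF : d ∈ F := mul_mem (Subgroup.Normal.conj_mem ‹F.Normal› v hv x) (inv_mem hv)
  have hpow : ∀ n : ℕ, x ^ n * v * (x ^ n)⁻¹ = d ^ n * v := by
    intro n
    induction n with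
    | zero => simp
    | succ n ih =>
      calc x ^ (n + 1) * v * (x ^ (n + 1))⁻¹ = x * (x ^ n * v * (x ^ n)⁻¹) * x⁻¹ := by
            rw [pow_succ']; group
        _ = (x * d ^ n) * v * x⁻¹ := by rw [ih]; group
        _ = d ^ n * (x * v * x⁻¹) := by rw [(hq'.pow_right n).eq]; group
        _ = d ^ (n + 1) * v := by rw [pow_succ, hd]; group
  have h1 := hpow (p ^ k)
  rw [hx, one_mul, inv_one, mul_one] at h1
  have h2 : d ^ p ^ k = 1 := right_eq_mul.mp h1
  obtain ⟨m, hm⟩ := IsPGroup.iff_orderOf.mp hF ⟨d, hdF⟩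
  rw [Subgroup.orderOf_mk] at hm
  have h3 : d = 1 := by
    refine orderOf_eq_one_iff.mp (Nat.eq_one_of_dvd_coprimes (b := p ^ k) ?_ (dvd_refl (orderOf d)) ?_)
    · rw [hm]; exact Nat.Coprime.pow_left m ((Nat.coprime_primes hq.out hp.out).mpr (Ne.symm hne) |>.pow_right k)
    · exact orderOf_dvd_of_pow_eq_one h2
  rw [hd, mul_inv_eq_one, mul_inv_eq_iff_eq_mul] at h3
  exact h3

/-- `p`-elements quadratic on the Fitting subgroup lie in it, for `p ≥ 5` or `O_p = 1`. -/
theorem mem_fitting_of_quadratic {p : ℕ} [hp : Fact p.Prime]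
    (hp5 : 5 ≤ p ∨ Cfsg.pCore p X = ⊥) {x : X} {k : ℕ} (hx : x ^ p ^ k = 1)
    (hquad : ∀ v ∈ Cfsg.fittingSubgroup X, Commute x (x * v * x⁻¹ * v⁻¹)) :
    x ∈ Cfsg.fittingSubgroup X := by
  set F := Cfsg.fittingSubgroup X with hF
  set Fp := Cfsg.pCore p X with hFp
  set F' : Subgroup X := ⨆ r : {r : Nat.Primes // (r : ℕ) ≠ p}, Cfsg.pCore ((r.1 : Nat.Primes) : ℕ) X
    with hF'
  have hle : ∀ r : Nat.Primes, Cfsg.pCore (r : ℕ) X ≤ F := fun r => by
    haveI : Fact (r : ℕ).Prime := ⟨r.2⟩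
    exact Cores.pCore_le_fittingSubgroup _
  have hF'F : F' ≤ F := iSup_le fun r => hle _
  have hFdec : F ≤ Fp ⊔ F' := by
    rw [hF, Cores.fittingSubgroup_eq_iSup_pCore]
    refine iSup_le fun r => ?_
    rcases eq_or_ne (r : ℕ) p with h | h
    · rw [h]; exact le_sup_left
    · exact le_sup_of_le_right (le_iSup (fun r : {r : Nat.Primes // (r : ℕ) ≠ p} =>
        Cfsg.pCore ((r.1 : Nat.Primes) : ℕ) X) ⟨r, h⟩)
  have hcomm : Fp ≤ Subgroup.centralizer (F' : Set X) := by
    rw [Subgroup.le_centralizer_iff, hF']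
    refine iSup_le fun r y hy => Subgroup.mem_centralizer_iff.mpr fun z hz => ?_
    haveI : Fact (r.1 : ℕ).Prime := ⟨r.1.2⟩
    exact Cores.pCore_commute (Ne.symm r.2) hz hy
  haveI : F'.Normal := Subgroup.iSup_normal _
  set D := (Cfsg.pCore p (X ⧸ Subgroup.centralizer (Fp : Set X))).comap
    (QuotientGroup.mk' (Subgroup.centralizer (Fp : Set X))) with hD
  set M := Subgroup.centralizer (F' : Set X) ⊓ D with hM
  have hxD : x ∈ D := by
    rw [hD, Subgroup.mem_comap, QuotientGroup.mk'_apply]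
    rcases hp5 with h5 | h0
    · exact pStable_solvable h5 (Cores.isPGroup_pCore p X) fun v hv =>
        hquad v (Cores.pCore_le_fittingSubgroup p hv)
    · have : x ∈ Subgroup.centralizer (Fp : Set X) := Subgroup.mem_centralizer_iff.mpr fun v hv => by
        rw [SetLike.mem_coe, h0, Subgroup.mem_bot] at hv
        simp [hv]
      rw [(QuotientGroup.eq_one_iff x).mpr this]
      exact one_mem _
  have hxC : x ∈ Subgroup.centralizer (F' : Set X) := by
    have hle' : F' ≤ Subgroup.centralizer ({x} : Set X) := iSup_le fun r v hv => by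
      haveI : Fact (r.1 : ℕ).Prime := ⟨r.1.2⟩
      exact Subgroup.mem_centralizer_singleton_iff.mpr
        (commute_of_quadratic (Ne.symm r.2) (Cores.isPGroup_pCore _ X) hx hv (hquad v (hle _ hv))).symm.eq
    exact Subgroup.mem_centralizer_iff.mpr fun v hv =>
      Subgroup.mem_centralizer_singleton_iff.mp (hle' hv)
  suffices hMF : M ≤ F from hMF ⟨hxC, hxD⟩
  refine Cores.le_fittingSubgroup (inferInstance : M.Normal)
    (Group.of_quotient_center_nilpotent (IsPGroup.isNilpotent (p := p) ?_))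
  intro q
  induction q using QuotientGroup.induction_on with
  | _ y =>
    obtain ⟨i, hi⟩ := Cores.isPGroup_pCore p (X ⧸ Subgroup.centralizer (Fp : Set X))
      ⟨_, (Subgroup.mem_comap.mp y.2.2 :)⟩
    have hi' : (y : X) ^ p ^ i ∈ Subgroup.centralizer (Fp : Set X) := by
      have := congrArg Subtype.val hi
      simp only [Subgroup.coe_pow, Subgroup.coe_one, QuotientGroup.mk'_apply,
        ← QuotientGroup.mk_pow, QuotientGroup.eq_one_iff] at this
      exact this
    have hkF : (y : X) ^ p ^ i ∈ F := by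
      refine Solvable.centralizer_fitting_le X (Subgroup.mem_centralizer_iff.mpr fun v hv => ?_)
      obtain ⟨a, ha, b, hb, rfl⟩ := Subgroup.mem_sup_of_normal_right.mp (hFdec hv)
      exact (Commute.mul_left (Subgroup.mem_centralizer_iff.mp hi' a ha)
        (Subgroup.mem_centralizer_iff.mp (pow_mem y.2.1 _) b hb)).eq
    obtain ⟨a, ha, b, hb, hab⟩ := Subgroup.mem_sup_of_normal_right.mp (hFdec hkF)
    obtain ⟨j, hj⟩ := Cores.isPGroup_pCore p X ⟨a, ha⟩
    have hj' : a ^ p ^ j = 1 := by simpa using congrArg Subtype.val hj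
    refine ⟨i + j, ?_⟩
    rw [← QuotientGroup.mk_pow, QuotientGroup.eq_one_iff]
    refine Subgroup.mem_center_iff.mpr fun z => Subtype.ext ?_
    simp only [Subgroup.coe_mul, Subgroup.coe_pow]
    have hb' : (y : X) ^ p ^ (i + j) = b ^ p ^ j := by
      rw [pow_add, pow_mul, ← hab,
        Commute.mul_pow (Subgroup.mem_centralizer_iff.mp (hcomm ha) b hb).symm, hj', one_mul]
    rw [hb']
    exact (Subgroup.mem_centralizer_iff.mp z.2.1 _ (pow_mem hb _)).symm

/-- The key step. -/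
theorem le_of_commute (π : Set ℕ) (h2 : 2 ∉ π) (h3 : 3 ∉ π) (hcore : Cfsg.piCore πᶜ X = ⊥)
    {A Fb : Subgroup X} (hF : Cfsg.fittingSubgroup X ≤ Fb) (hN : Fb ≤ Subgroup.normalizer (A : Set X))
    (hA : Fb ⊓ Subgroup.centralizer (A : Set X) ≤ A) : Subgroup.centralizer (A : Set X) ≤ A := by
  have hquad : ∀ x ∈ Subgroup.centralizer (A : Set X), ∀ v ∈ Cfsg.fittingSubgroup X,
      Commute x (x * v * x⁻¹ * v⁻¹) := by
    intro x hx v hv
    have hdF : x * v * x⁻¹ * v⁻¹ ∈ Cfsg.fittingSubgroup X :=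
      mul_mem ((Cores.fittingSubgroup_normal X).conj_mem v hv x) (inv_mem hv)
    refine Subgroup.mem_centralizer_iff.mp hx _ (hA ⟨hF hdF, ?_⟩) |>.symm
    refine Subgroup.mem_centralizer_iff.mpr fun a ha => ?_
    have hva : v⁻¹ * a * v ∈ A := by
      have := (Subgroup.mem_normalizer_iff.mp (inv_mem (hN (hF hv))) a).mp ha
      simpa using this
    have h1 := Subgroup.mem_centralizer_iff.mp hx _ hva
    have h2 := Subgroup.mem_centralizer_iff.mp hx _ ha
    have hxa : x⁻¹ * a = a * x⁻¹ := (Commute.inv_left (show Commute x a from h2.symm)).eq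
    calc a * (x * v * x⁻¹ * v⁻¹) = (a * x) * v * x⁻¹ * v⁻¹ := by group
      _ = x * v * ((v⁻¹ * a * v) * x⁻¹) * v⁻¹ := by rw [h2]; group
      _ = x * v * (x⁻¹ * (v⁻¹ * a * v)) * v⁻¹ := by
          rw [(Commute.inv_left (show Commute x (v⁻¹ * a * v) from h1.symm)).eq]
      _ = (x * v * x⁻¹ * v⁻¹) * a := by group
  intro g hg
  induction hn : orderOf g using Nat.strong_induction_on generalizing g with
  | _ n ih =>
    subst hn
    rcases eq_or_ne g 1 with rfl | hg1
    · exact one_mem A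
    obtain ⟨p, hp, hpd⟩ := Nat.exists_prime_and_dvd (mt orderOf_eq_one_iff.mp hg1)
    haveI := Fact.mk hp
    obtain ⟨x, y, hgxy, hxg, hyg, ⟨k, hxk⟩, hy⟩ := Transfer.exists_pPart_mul (p := p) g
    have hxC : x ∈ Subgroup.centralizer (A : Set X) := (Subgroup.zpowers_le.mpr hg) hxg
    have hyC : y ∈ Subgroup.centralizer (A : Set X) := (Subgroup.zpowers_le.mpr hg) hyg
    have hp5 : 5 ≤ p ∨ Cfsg.pCore p X = ⊥ := by
      by_cases hpπ : p ∈ π
      · left
        rcases (show p = 2 ∨ p = 3 ∨ p = 4 ∨ 5 ≤ p by have := hp.two_le; omega) with h | h | h | h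
        · exact absurd (h ▸ hpπ) h2
        · exact absurd (h ▸ hpπ) h3
        · exact absurd (h ▸ hp) (by norm_num)
        · exact h
      · right
        rw [eq_bot_iff, ← hcore]
        refine Cores.le_piCore inferInstance fun q hq hd => ?_
        obtain ⟨m, hm⟩ := IsPGroup.iff_card.mp (Cores.isPGroup_pCore p X)
        rw [hm] at hd
        rw [(Nat.prime_dvd_prime_iff_eq hq hp).mp (hq.dvd_of_dvd_pow hd)]
        exact hpπ
    have hxA : x ∈ A := hA ⟨hF (mem_fitting_of_quadratic hp5 (k := k)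
      (hxk ▸ pow_orderOf_eq_one x) (hquad x hxC)), hxC⟩
    rw [hgxy]
    refine mul_mem hxA (ih (orderOf y) ?_ hyC rfl)
    refine lt_of_le_of_ne (Nat.le_of_dvd (orderOf_pos g) (orderOf_dvd_of_mem_zpowers hyg))
      fun he => ?_
    exact hp.not_dvd_one (hy ▸ Nat.dvd_gcd (he.symm ▸ hpd) dvd_rfl)

end Cfsg.Agent.SelfCentFitting
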